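import Groth.Agent.SiteBase.CechInst
import Groth.Agent.SiteBase.KInjSections
import Groth.Prelude.Def_CohB1
import Groth.Prelude.Def_CechTot
import Groth.Prelude.Def_HTor
import Mathlib.CategoryTheory.Abelian.Injective.Extend
import Mathlib.Algebra.Homology.ShortComplex.Ab

/-!
# Zigzags in the Cech bicomplex of an injective complex
-/

universe u

set_option autoImplicit false
set_option backward.isDefEq.respectTransparency false
set_option backward.isDefEq.respectTransparency.types false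

open CategoryTheory CategoryTheory.Limits Opposite TopologicalSpace
open Groth.Agent.SiteBase

namespace Groth.Agent.DSites.Hyper

noncomputable section

variable {X : TopCat.{u}} {ι : Type u}

/-- The cycles of a complex of abelian groups to its cohomology. -/
def toH (K : CochainComplex AddCommGrpCat.{u} ℕ) (p : ℕ) : (K.d p (p + 1)).hom.ker →+ K.homology p :=
  AddMonoidHom.comp
    ((K.homologyIsoSc' ((ComplexShape.up ℕ).prev p) p (p + 1) rfl (by simp)).trans
      (K.sc' ((ComplexShape.up ℕ).prev p) p (p + 1)).abHomologyIso).inv.hom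
    (QuotientAddGroup.mk' (K.sc' ((ComplexShape.up ℕ).prev p) p (p + 1)).abToCycles.range :
      (K.d p (p + 1)).hom.ker →+ _)

lemma toH_eq_zero (K : CochainComplex AddCommGrpCat.{u} ℕ) (p : ℕ) (c : (K.d p (p + 1)).hom.ker)
    (h : toH K p c = 0) : ∃ b, K.d ((ComplexShape.up ℕ).prev p) p b = c.1 := by
  let S := K.sc' ((ComplexShape.up ℕ).prev p) p (p + 1)
  let e := (K.homologyIsoSc' ((ComplexShape.up ℕ).prev p) p (p + 1) rfl (by simp)).trans S.abHomologyIso
  have h' : e.hom (e.inv (QuotientAddGroup.mk' S.abToCycles.range c)) = 0 :=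
    (congrArg e.hom h).trans (map_zero _)
  rw [Iso.inv_hom_id_apply] at h'
  obtain ⟨b, hb⟩ := (QuotientAddGroup.eq_zero_iff _).1 h'
  exact ⟨b, congrArg Subtype.val hb⟩

/-- The Cech complexes for the family. -/
abbrev CC (U : ι → Opens X) : ((Opens X)ᵒᵖ ⥤ AddCommGrpCat.{u}) ⥤ CochainComplex AddCommGrpCat.{u} ℕ :=
  cechComplexFunctor U

/-- The map of cochains. -/
abbrev cm (U : ι → Opens X) {P Q : (Opens X)ᵒᵖ ⥤ AddCommGrpCat.{u}} (φ : P ⟶ Q) (p : ℕ) :
    ((CC U).obj P).X p →+ ((CC U).obj Q).X p :=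
  (((CC U).map φ).f p).hom

variable (U : ι → Opens X)

lemma cm_d {P Q : (Opens X)ᵒᵖ ⥤ AddCommGrpCat.{u}} (φ : P ⟶ Q) (p p' : ℕ) (x : ((CC U).obj P).X p) :
    ((CC U).obj Q).d p p' (cm U φ p x) = cm U φ p' (((CC U).obj P).d p p' x) :=
  ConcreteCategory.congr_hom (((CC U).map φ).comm p p') x

lemma cm_surjective {P Q : (Opens X)ᵒᵖ ⥤ AddCommGrpCat.{u}} (φ : P ⟶ Q)
    (h : ∀ V, Function.Surjective (φ.app (op V)).hom) (p : ℕ) : Function.Surjective (cm U φ p) := fun y => by
  choose g hg using fun i => h _ (cev U Q p i y)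
  obtain ⟨x, hx⟩ := exists_cev U P g
  exact ⟨x, cev_ext U Q fun i => by rw [cev_map, hx, hg]⟩

lemma cm_injective {P Q : (Opens X)ᵒᵖ ⥤ AddCommGrpCat.{u}} (φ : P ⟶ Q)
    (h : ∀ V, Function.Injective (φ.app (op V)).hom) (p : ℕ) : Function.Injective (cm U φ p) := fun x y e =>
  cev_ext U P fun i => h _ ((cev_map U P φ p i x).symm.trans ((congrArg _ e).trans (cev_map U P φ p i y)))

lemma cm_exists_preimage {P Q R : (Opens X)ᵒᵖ ⥤ AddCommGrpCat.{u}} (φ : P ⟶ Q) (ψ : Q ⟶ R)
    (h : ∀ V z, ψ.app (op V) z = 0 → ∃ x, φ.app (op V) x = z) (p : ℕ) (y : ((CC U).obj Q).X p)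
    (hy : cm U ψ p y = 0) : ∃ x, cm U φ p x = y := by
  choose g hg using fun i => h _ (cev U Q p i y)
    ((cev_map U Q ψ p i y).symm.trans ((congrArg (cev U R p i) hy).trans (map_zero _)))
  obtain ⟨x, hx⟩ := exists_cev U P g
  exact ⟨x, cev_ext U Q fun i => by rw [cev_map, hx]; exact hg i⟩

variable (hcov : iSup U = ⊤)

/-- The cover of the whole space. -/
def topCtx : CechCtx (𝟭 (Opens X)) (⊤ : Opens X) U where
  s i := homOfLE le_top
  comm _ := Subsingleton.elim _ _
  fact i W a b _ := (ctxOpens U).fact i a b (Subsingleton.elim _ _)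

include hcov in
lemma topCtx_sieve_mem : (topCtx U).sieve ∈ Opens.grothendieckTopology X ⊤ := by
  intro x hx
  obtain ⟨i, hi⟩ := Opens.mem_iSup.1 (hcov.symm ▸ hx : x ∈ iSup U)
  exact ⟨U i, homOfLE le_top, Sieve.ofArrows_mk _ _ i, hi⟩

/-- The augmentation of the Cech complex of a sheaf. -/
def aug (F : CohTop.Ab X) : F.obj.obj (op ⊤) →+ ((CC U).obj F.obj).X 0 :=
  AddMonoidHom.mk' (fun t => (exists_res0 (topCtx U) F t).choose) fun a b => by
    refine comp0_ext U F.obj ((exists_res0 (topCtx U) F (a + b)).choose_spec.trans (funext fun i => ?_))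
    have hadd : comp0 U F.obj ((exists_res0 (topCtx U) F a).choose + (exists_res0 (topCtx U) F b).choose) i =
        comp0 U F.obj (exists_res0 (topCtx U) F a).choose i + comp0 U F.obj (exists_res0 (topCtx U) F b).choose i :=
      (congrArg _ (map_add (cev U F.obj 0 fun _ => i) _ _)).trans (map_add _ _ _)
    rw [hadd]
    refine (map_add _ a b).trans (congrArg₂ (· + ·) ?_ ?_)
    · exact (congrFun (exists_res0 (topCtx U) F a).choose_spec i).symm
    · exact (congrFun (exists_res0 (topCtx U) F b).choose_spec i).symm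

lemma comp0_aug (F : CohTop.Ab X) (t : F.obj.obj (op ⊤)) (i : ι) :
    comp0 U F.obj (aug U F t) i = (F.obj.map (homOfLE le_top : U i ⟶ ⊤).op).hom t :=
  congrFun (exists_res0 (topCtx U) F t).choose_spec i

lemma aug_map {F G : CohTop.Ab X} (φ : F ⟶ G) (t : F.obj.obj (op ⊤)) :
    cm U φ.hom 0 (aug U F t) = aug U G (φ.hom.app (op ⊤) t) :=
  comp0_ext U G.obj (funext fun i => by
    rw [comp0_map, comp0_aug, comp0_aug]
    exact (ConcreteCategory.congr_hom (φ.hom.naturality (homOfLE le_top : U i ⟶ ⊤).op) t))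

lemma d_aug (F : CohTop.Ab X) (t : F.obj.obj (op ⊤)) : ((CC U).obj F.obj).d 0 1 (aug U F t) = 0 :=
  res0_cocycle (topCtx U) (F := F) (exists_res0 (topCtx U) F t).choose_spec

include hcov in
lemma aug_injective (F : CohTop.Ab X) : Function.Injective (aug U F) := fun t t' h =>
  res0_injective (topCtx U) (topCtx_sieve_mem U hcov) fun i =>
    (comp0_aug U F t i).symm.trans ((congrArg (fun z => comp0 U F.obj z i) h).trans (comp0_aug U F t' i))

include hcov in
lemma exists_aug (F : CohTop.Ab X) (x : ((CC U).obj F.obj).X 0) (hx : ((CC U).obj F.obj).d 0 1 x = 0) :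
    ∃ t, aug U F t = x := by
  obtain ⟨t, ht⟩ := exists_glue (topCtx U) (topCtx_sieve_mem U hcov) (F := F) x hx
  exact ⟨t, comp0_ext U F.obj (funext fun i => (comp0_aug U F t i).trans (ht i))⟩

lemma exists_primitive (F : CohTop.Ab X) [Injective F] (p : ℕ) (x : ((CC U).obj F.obj).X (p + 1))
    (hx : ((CC U).obj F.obj).d (p + 1) (p + 2) x = 0) : ∃ y, ((CC U).obj F.obj).d p (p + 1) y = x := by
  have := injective_obj F
  have h := exactAt_cech_injective U F.obj p
  rw [HomologicalComplex.exactAt_iff' _ p (p + 1) (p + 2) (by simp) (by simp), ShortComplex.ab_exact_iff] at h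
  exact h x hx

variable (I : CochainComplex (CohTop.Ab X) ℤ)

/-- The cochains. -/
abbrev C (p : ℕ) (q : ℤ) : AddCommGrpCat.{u} := ((CC U).obj (I.X q).obj).X p

/-- The Cech differential. -/
abbrev δ (p : ℕ) (q : ℤ) : C U I p q →+ C U I (p + 1) q := (((CC U).obj (I.X q).obj).d p (p + 1)).hom

/-- The differential of the complex. -/
abbrev dv (p : ℕ) (q q' : ℤ) : C U I p q →+ C U I p q' := cm U (I.d q q').hom p

/-- The global sections. -/
abbrev gs (q : ℤ) : AddCommGrpCat.{u} := (I.X q).obj.obj (op ⊤)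

lemma δ_dv (p : ℕ) (q q' : ℤ) (x : C U I p q) : δ U I p q' (dv U I p q q' x) = dv U I (p + 1) q q' (δ U I p q x) :=
  cm_d U _ _ _ x

lemma δ_δ (p : ℕ) (q : ℤ) (x : C U I p q) : δ U I (p + 1) q (δ U I p q x) = 0 :=
  ConcreteCategory.congr_hom (((CC U).obj (I.X q).obj).d_comp_d p (p + 1) (p + 2)) x

lemma dv_dv (p : ℕ) (q q' q'' : ℤ) (x : C U I p q) : dv U I p q' q'' (dv U I p q q' x) = 0 :=
  cev_ext U _ fun i => by
    rw [cev_map, cev_map, map_zero]
    exact ConcreteCategory.congr_hom (congrArg (fun g => g.hom.app (op (∏ᶜ fun k => U (i k)))) (I.d_comp_d q q' q''))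
      (cev U _ p i x)

/-- The degree `n - k`. -/
def qd (n : ℤ) : ℕ → ℤ
  | 0 => n
  | k + 1 => qd n k - 1

lemma qd_eq (n : ℤ) : ∀ k, qd n k = n - (k : ℤ)
  | 0 => (sub_zero n).symm
  | k + 1 => by
    show qd n k - 1 = _
    rw [qd_eq n k]
    omega

variable (n : ℤ)

/-- Zigzag data. -/
abbrev Data : Type u := gs I n × ∀ k : ℕ, C U I k (qd n (k + 1))

/-- The last term of a zigzag of a given length. -/
def lead : ∀ p : ℕ, Data U I n →+ C U I p (qd n p)
  | 0 => (aug U (I.X n)).comp (AddMonoidHom.fst _ _)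
  | p + 1 => (δ U I p (qd n (p + 1))).comp ((Pi.evalAddMonoidHom _ p).comp (AddMonoidHom.snd _ _))

lemma δ_lead (p : ℕ) (w : Data U I n) : δ U I p (qd n p) (lead U I n p w) = 0 := by
  cases p with
  | zero => exact d_aug U _ w.1
  | succ p => exact δ_δ U I p _ _

/-- The condition at step `k`. -/
def step (k : ℕ) : Data U I n →+ C U I k (qd n k) :=
  lead U I n k - (dv U I k (qd n (k + 1)) (qd n k)).comp ((Pi.evalAddMonoidHom _ k).comp (AddMonoidHom.snd _ _))

lemma step_eq_zero {k : ℕ} {w : Data U I n} :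
    step U I n k w = 0 ↔ lead U I n k w = dv U I k (qd n (k + 1)) (qd n k) (w.2 k) := sub_eq_zero

/-- Zigzags of length `p`. -/
def chains (p : ℕ) : AddSubgroup (Data U I n) :=
  ((I.d n (n + 1)).hom.app (op ⊤)).hom.ker.comap (AddMonoidHom.fst _ _) ⊓ ⨅ k, ⨅ _ : k < p, (step U I n k).ker

variable {U I n}

lemma mem_chains {p : ℕ} {w : Data U I n} :
    w ∈ chains U I n p ↔ (I.d n (n + 1)).hom.app (op ⊤) w.1 = 0 ∧ ∀ k < p, step U I n k w = 0 := by
  simp [chains, AddSubgroup.mem_iInf]

lemma lead_update {k p : ℕ} (w : Data U I n) (z : C U I p (qd n (p + 1))) (h : k ≤ p) :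
    lead U I n k (w.1, Function.update w.2 p z) = lead U I n k w := by
  cases k with
  | zero => rfl
  | succ k =>
    show δ U I k _ (Function.update w.2 p z k) = δ U I k _ (w.2 k)
    rw [Function.update_of_ne (show k ≠ p by omega)]

lemma step_update {k p : ℕ} (w : Data U I n) (z : C U I p (qd n (p + 1))) (h : k < p) :
    step U I n k (w.1, Function.update w.2 p z) = step U I n k w :=
  congrArg₂ (· - ·) (lead_update w z h.le)
    (congrArg (dv U I k _ _) (Function.update_of_ne h.ne z w.2))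

lemma mem_chains_update {p : ℕ} {w : Data U I n} (hw : w ∈ chains U I n p) (z : C U I p (qd n (p + 1))) :
    (w.1, Function.update w.2 p z) ∈ chains U I n p :=
  mem_chains.2 ⟨(mem_chains.1 hw).1, fun k hk => (step_update w z hk).trans ((mem_chains.1 hw).2 k hk)⟩

lemma mem_chains_succ {p : ℕ} {w : Data U I n} (hw : w ∈ chains U I n p) (z : C U I p (qd n (p + 1)))
    (h : lead U I n p w = dv U I p (qd n (p + 1)) (qd n p) z) :
    (w.1, Function.update w.2 p z) ∈ chains U I n (p + 1) := by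
  refine mem_chains.2 ⟨(mem_chains.1 hw).1, fun k hk => ?_⟩
  rcases Nat.lt_succ_iff_lt_or_eq.1 hk with hk | rfl
  · exact (step_update w z hk).trans ((mem_chains.1 hw).2 k hk)
  · rw [step_eq_zero, lead_update w z le_rfl, h]
    exact congrArg (dv U I k _ _) (Function.update_self k z w.2).symm

lemma chains_mono {p p' : ℕ} (h : p ≤ p') : chains U I n p' ≤ chains U I n p := fun w hw =>
  mem_chains.2 ⟨(mem_chains.1 hw).1, fun k hk => (mem_chains.1 hw).2 k (by omega)⟩

lemma dv_lead {p : ℕ} {w : Data U I n} (hw : w ∈ chains U I n p) :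
    dv U I p (qd n p) (qd n p + 1) (lead U I n p w) = 0 := by
  cases p with
  | zero => exact (aug_map U _ _).trans ((congrArg (aug U _) (mem_chains.1 hw).1).trans (map_zero _))
  | succ p =>
    have e : qd n (p + 1) + 1 = qd n p := sub_add_cancel _ _
    rw [e]
    refine (δ_dv U I p _ _ _).symm.trans ?_
    exact (congrArg (δ U I p (qd n p)) (step_eq_zero U I n |>.1 ((mem_chains.1 hw).2 p (Nat.lt_succ_self p))).symm).trans
      (δ_lead U I n p w)

include hcov in
/-- A zigzag running out of the range comes from a boundary. -/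
lemma boundary_of_chain [∀ q, Injective (I.X q)] (p : ℕ) :
    ∀ w : Data U I n, w ∈ chains U I n (p + 1) → δ U I p (qd n (p + 1)) (w.2 p) = 0 →
      ∃ y, (I.d (qd n 1) n).hom.app (op ⊤) y = w.1 := by
  induction p with
  | zero =>
    intro w hw hz
    obtain ⟨y, hy⟩ := exists_aug U hcov _ _ hz
    refine ⟨y, aug_injective U hcov _ ((aug_map U _ y).symm.trans ?_)⟩
    rw [hy]
    exact (step_eq_zero U I n |>.1 ((mem_chains.1 hw).2 0 (by omega))).symm
  | succ p ih =>
    intro w hw hz
    obtain ⟨v, hv⟩ := exists_primitive U (I.X (qd n (p + 2))) p (w.2 (p + 1)) hz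
    let z := w.2 p - dv U I p (qd n (p + 2)) (qd n (p + 1)) v
    have h0 := step_eq_zero U I n |>.1 ((mem_chains.1 hw).2 (p + 1) (Nat.lt_succ_self _))
    refine ih (w.1, Function.update w.2 p z) ?_ ?_
    · refine mem_chains_succ (chains_mono (by omega) hw) z ?_
      refine (step_eq_zero U I n |>.1 ((mem_chains.1 hw).2 p (by omega))).trans ?_
      rw [map_sub, dv_dv, sub_zero]
    · show δ U I p _ (Function.update w.2 p z p) = 0
      rw [Function.update_self, map_sub, δ_dv, hv]
      exact sub_eq_zero.2 h0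

end

end Groth.Agent.DSites.Hyper
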