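import Groth.Agent.DSites.Hyper.Chain

/-!
# The filtration of hypercohomology by a cover
-/

universe u

set_option autoImplicit false
set_option backward.isDefEq.respectTransparency false
set_option backward.isDefEq.respectTransparency.types false

open CategoryTheory CategoryTheory.Limits Opposite TopologicalSpace
open Groth.Agent.SiteBase

namespace Groth.Agent.DSites.Hyper

noncomputable section

variable {X : TopCat.{u}}

/-- The inclusion of cycles. -/
abbrev iC (J : CochainComplex (CohTop.Ab X) ℤ) (q : ℤ) : (KInjSections.preCx J).cycles q ⟶ (J.X q).obj :=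
  (KInjSections.preCx J).iCycles q

variable {ι : Type u} (U : ι → Opens X) [HasDerivedCategory.{u} (CohTop.Ab X)]
  {K I : CochainComplex (CohTop.Ab X) ℤ} (e : DerivedCategory.Q.obj I ≅ DerivedCategory.Q.obj K)
  [I.IsKInjective]

/-- Isomorphic complexes have the same hypercohomology presheaves. -/
def hIso (q : ℤ) :
    CohCx.HDUPresheaf (DerivedCategory.Q.obj I) q ≅ CohCx.HDUPresheaf (DerivedCategory.Q.obj K) q :=
  Functor.isoWhiskerLeft _ (preadditiveYoneda.mapIso ((shiftFunctor _ q).mapIso e))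

/-- The classes of cycles. -/
def cls (q : ℤ) : (KInjSections.preCx I).cycles q ⟶ CohCx.HDUPresheaf (DerivedCategory.Q.obj K) q :=
  KInjSections.cycleMap I q ≫ (hIso e q).hom

lemma cls_surjective (q : ℤ) (V : Opens X) : Function.Surjective ((cls e q).app (op V)).hom := fun y => by
  obtain ⟨x, hx⟩ := KInjSections.cycleMap_surjective I q V (((hIso e q).app (op V)).inv y)
  exact ⟨x, (congrArg ((hIso e q).app (op V)).hom hx).trans (Iso.inv_hom_id_apply ((hIso e q).app (op V)) y)⟩

lemma cls_eq_zero_iff (q : ℤ) (V : Opens X) (x : ((KInjSections.preCx I).cycles q).obj (op V)) :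
    (cls e q).app (op V) x = 0 ↔
      ∃ y, (I.d (q - 1) q).hom.app (op V) y = ((iC I q).app (op V)) x := by
  refine Iff.trans ?_ (KInjSections.cycleMap_eq_zero_iff I q V x)
  constructor
  · intro h
    exact ((Iso.hom_inv_id_apply ((hIso e q).app (op V)) _).symm.trans
      (congrArg ((hIso e q).app (op V)).inv h)).trans (map_zero _)
  · intro h
    exact (congrArg ((hIso e q).app (op V)).hom h).trans (map_zero _)

omit [HasDerivedCategory.{u} (CohTop.Ab X)] [I.IsKInjective] in
lemma iCycles_injective (q : ℤ) (V : Opens X) :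
    Function.Injective ((iC I q).app (op V)).hom :=
  (AddCommGrpCat.mono_iff_injective _).1 (inferInstance : Mono ((iC I q).app (op V)))

omit [HasDerivedCategory.{u} (CohTop.Ab X)] [I.IsKInjective] in
lemma cm_iCycles_injective (p : ℕ) (q : ℤ) :
    Function.Injective (cm U (iC I q) p) :=
  cm_injective U _ (iCycles_injective q) p

omit [HasDerivedCategory.{u} (CohTop.Ab X)] [I.IsKInjective] in
lemma dv_iCycles (p : ℕ) (q : ℤ) (c : ((CC U).obj ((KInjSections.preCx I).cycles q)).X p) :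
    dv U I p q (q + 1) (cm U (iC I q) p c) = 0 :=
  cev_ext U _ fun i => by
    rw [cev_map, cev_map, map_zero]
    exact ConcreteCategory.congr_hom (NatTrans.congr_app ((KInjSections.preCx I).iCycles_d q (q + 1)) _) _

lemma exists_cyc (p : ℕ) (q : ℤ) (z : C U I p q) (hz : dv U I p q (q + 1) z = 0) :
    ∃ c, cm U (iC I q) p c = z :=
  cm_exists_preimage U _ (I.d q (q + 1)).hom (fun V z h => KInjSections.exists_cycle I q V z h) p z hz

/-- The classes of cochains of cycles. -/
abbrev clC (p : ℕ) (q : ℤ) :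
    ((CC U).obj ((KInjSections.preCx I).cycles q)).X p →+
      ((CC U).obj (CohCx.HDUPresheaf (DerivedCategory.Q.obj K) q)).X p :=
  cm U (cls e q) p

lemma clC_eq_zero (p : ℕ) (q q' : ℤ) (hq : q' + 1 = q) (c : ((CC U).obj ((KInjSections.preCx I).cycles q)).X p)
    (h : clC U e p q c = 0) : ∃ y, dv U I p q' q y = cm U (iC I q) p c := by
  obtain rfl : q' = q - 1 := by omega
  choose g hg using fun i => (cls_eq_zero_iff e q _ (cev U ((KInjSections.preCx I).cycles q) p i c)).1
    ((cev_map U _ (cls e q) p i c).symm.trans ((congrArg (cev U (CohCx.HDUPresheaf _ q) p i) h).trans (map_zero _)))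
  obtain ⟨y, hy⟩ := exists_cev U (I.X (q - 1)).obj g
  exact ⟨y, cev_ext U _ fun i => by rw [cev_map, cev_map, hy]; exact hg i⟩

lemma clC_eq_zero_of (p : ℕ) (q q' : ℤ) (hq : q' + 1 = q) (c : ((CC U).obj ((KInjSections.preCx I).cycles q)).X p)
    (y : C U I p q') (hy : dv U I p q' q y = cm U (iC I q) p c) : clC U e p q c = 0 := by
  obtain rfl : q' = q - 1 := by omega
  refine cev_ext U _ fun i => ?_
  rw [cev_map, map_zero]
  exact (cls_eq_zero_iff e q _ _).2 ⟨cev U (I.X (q - 1)).obj p i y,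
    (cev_map U _ _ p i y).symm.trans ((congrArg (cev U (I.X q).obj p i) hy).trans (cev_map U _ _ p i c))⟩

variable (n : ℤ)

/-- Zigzags with the cochain of cycles at the end. -/
abbrev WD (p : ℕ) : Type u :=
  ((KInjSections.preCx I).cycles n).obj (op ⊤) × (∀ k : ℕ, C U I k (qd n (k + 1))) ×
    ((CC U).obj ((KInjSections.preCx I).cycles (qd n p))).X p

/-- The underlying data. -/
def dat (p : ℕ) : WD U (I := I) n p →+ Data U I n :=
  (((iC I n).app (op ⊤)).hom.comp (AddMonoidHom.fst _ _)).prod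
    ((AddMonoidHom.fst _ _).comp (AddMonoidHom.snd _ _))

/-- The cochain of cycles. -/
def last (p : ℕ) : WD U (I := I) n p →+ ((CC U).obj ((KInjSections.preCx I).cycles (qd n p))).X p :=
  (AddMonoidHom.snd _ _).comp (AddMonoidHom.snd _ _)

/-- Compatible zigzags. -/
def wit (p : ℕ) : AddSubgroup (WD U (I := I) n p) :=
  (chains U I n p).comap (dat U n p) ⊓
    ((cm U (iC I (qd n p)) p).comp (last U n p) - (lead U I n p).comp (dat U n p)).ker

variable {n}

omit [HasDerivedCategory.{u} (CohTop.Ab X)] [I.IsKInjective] in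
lemma mem_wit {p : ℕ} {x : WD U (I := I) n p} :
    x ∈ wit U n p ↔ dat U n p x ∈ chains U I n p ∧
      cm U (iC I (qd n p)) p x.2.2 = lead U I n p (dat U n p x) :=
  and_congr Iff.rfl sub_eq_zero

omit [HasDerivedCategory.{u} (CohTop.Ab X)] [I.IsKInjective] in
lemma d_iCycles_top (x : ((KInjSections.preCx I).cycles n).obj (op ⊤)) :
    (I.d n (n + 1)).hom.app (op ⊤) (((iC I n).app (op ⊤)) x) = 0 :=
  ConcreteCategory.congr_hom (NatTrans.congr_app ((KInjSections.preCx I).iCycles_d n (n + 1)) _) x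

lemma exists_wit {p : ℕ} (x : ((KInjSections.preCx I).cycles n).obj (op ⊤)) (w : ∀ k : ℕ, C U I k (qd n (k + 1)))
    (h : (((iC I n).app (op ⊤)) x, w) ∈ chains U I n p) :
    ∃ c, (x, w, c) ∈ wit U n p := by
  obtain ⟨c, hc⟩ := exists_cyc U p _ _ (dv_lead h)
  exact ⟨c, (mem_wit U).2 ⟨h, hc⟩⟩

variable (n)

/-- The step of the filtration, as an additive subgroup. -/
def G₀ (p : ℕ) : AddSubgroup (CohCx.HDU (DerivedCategory.Q.obj K) n (⊤ : Opens X)) :=
  (wit U n p).map (((cls e n).app (op ⊤)).hom.comp (AddMonoidHom.fst _ _))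

/-- The filtration. -/
def G (p : ℕ) : Submodule ℤ (CohCx.HDU (DerivedCategory.Q.obj K) n (⊤ : Opens X)) :=
  AddSubgroup.toIntSubmodule (G₀ U e n p)

variable {n}

lemma G_antitone : Antitone (G U e n) := antitone_nat_of_succ_le fun p => by
  rintro _ ⟨⟨x, w, c⟩, hx, rfl⟩
  obtain ⟨c', hc'⟩ := exists_wit U x w (chains_mono (Nat.le_succ p) ((mem_wit U).1 hx).1)
  exact ⟨_, hc', rfl⟩

lemma G_zero : G U e n 0 = ⊤ := eq_top_iff.2 fun ξ _ => by
  obtain ⟨x, rfl⟩ := cls_surjective e n ⊤ ξ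
  obtain ⟨c, hc⟩ := exists_wit (p := 0) U x 0 (mem_chains.2 ⟨d_iCycles_top x, fun k hk => absurd hk (by omega)⟩)
  exact ⟨_, hc, rfl⟩

lemma G_one : G U e n 1 = ⨅ i, AddSubgroup.toIntSubmodule
    (CohCx.HDUres (DerivedCategory.Q.obj K) n (homOfLE le_top : U i ⟶ (⊤ : Opens X))).ker := by
  refine le_antisymm (le_iInf fun i => ?_) fun ξ hξ => ?_
  · rintro _ ⟨⟨x, w, c⟩, hx, rfl⟩
    have hc := step_eq_zero U I n |>.1 ((mem_chains.1 ((mem_wit U).1 hx).1).2 0 Nat.one_pos)
    show (CohCx.HDUPresheaf (DerivedCategory.Q.obj K) n).map (homOfLE le_top : U i ⟶ ⊤).op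
      ((cls e n).app (op ⊤) x) = 0
    refine (ConcreteCategory.congr_hom ((cls e n).naturality (homOfLE le_top : U i ⟶ ⊤).op) x).symm.trans
      ((cls_eq_zero_iff e n (U i) _).2 ⟨comp0 U (I.X (n - 1)).obj (w 0) i, ?_⟩)
    refine (comp0_map U _ (I.d (n - 1) n).hom (w 0) i).symm.trans ?_
    refine (congrArg (fun z => comp0 U (I.X n).obj z i) hc.symm).trans ((comp0_aug U (I.X n) _ i).trans ?_)
    exact (ConcreteCategory.congr_hom ((iC I n).naturality
      (homOfLE le_top : U i ⟶ ⊤).op) x).symm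
  · obtain ⟨x, rfl⟩ := cls_surjective e n ⊤ ξ
    have h' : ∀ i, ∃ y, (I.d (n - 1) n).hom.app (op (U i)) y =
        ((iC I n).app (op (U i)))
          (((KInjSections.preCx I).cycles n).map (homOfLE le_top : U i ⟶ ⊤).op x) := fun i => by
      refine (cls_eq_zero_iff e n (U i) _).1 ?_
      refine (ConcreteCategory.congr_hom ((cls e n).naturality (homOfLE le_top : U i ⟶ ⊤).op) x).trans ?_
      exact (Submodule.mem_iInf _).1 hξ i
    choose g hg using h'
    obtain ⟨y, hy⟩ := exists_comp0 U (I.X (n - 1)).obj g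
    let w : ∀ k : ℕ, C U I k (qd n (k + 1)) := Function.update 0 0 y
    have hw : (((iC I n).app (op ⊤)) x, w) ∈ chains U I n 1 := by
      refine mem_chains_succ (w := (_, 0)) (p := 0)
        (mem_chains.2 ⟨d_iCycles_top x, fun k hk => absurd hk (by omega)⟩) y ?_
      refine comp0_ext U (I.X n).obj (funext fun i => ?_)
      refine (comp0_aug U (I.X n) _ i).trans (Eq.trans ?_ (comp0_map U _ (I.d (n - 1) n).hom y i).symm)
      rw [hy]
      refine Eq.trans ?_ (hg i).symm
      exact (ConcreteCategory.congr_hom ((iC I n).naturality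
        (homOfLE le_top : U i ⟶ ⊤).op) x).symm
    obtain ⟨c, hc⟩ := exists_wit U x w hw
    exact ⟨_, hc, rfl⟩

variable (n) in
lemma G_bot (hcov : iSup U = ⊤) [∀ q, Injective (I.X q)] (a : ℤ) [I.IsStrictlyGE a] :
    G U e n ((n - a).toNat + 1) = ⊥ := eq_bot_iff.2 <| by
  rintro _ ⟨⟨x, w, c⟩, hx, rfl⟩
  let p := (n - a).toNat
  have hz : δ U I p (qd n (p + 1)) (w p) = 0 := by
    have h0 : IsZero (I.X (qd n (p + 1))) := I.isZero_of_isStrictlyGE a _ (by rw [qd_eq]; omega)
    refine cev_ext U _ fun i => ?_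
    have : Subsingleton ((I.X (qd n (p + 1))).obj.obj (op (∏ᶜ fun k => U (i k)))) :=
      AddCommGrpCat.subsingleton_of_isZero
        ((sheafToPresheaf _ _ ⋙ (evaluation _ _).obj (op (∏ᶜ fun k => U (i k)))).map_isZero h0)
    exact Subsingleton.elim _ _
  obtain ⟨y, hy⟩ := boundary_of_chain hcov p _ ((mem_wit U).1 hx).1 hz
  exact (Submodule.mem_bot ℤ).2 ((cls_eq_zero_iff e n ⊤ x).2 ⟨y, hy⟩)

lemma d_last {p : ℕ} {x : WD U (I := I) n p} (hx : x ∈ wit U n p) :
    ((CC U).obj (CohCx.HDUPresheaf (DerivedCategory.Q.obj K) (qd n p))).d p (p + 1)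
      (clC U e p (qd n p) x.2.2) = 0 := by
  rw [cm_d]
  have h : ((CC U).obj ((KInjSections.preCx I).cycles (qd n p))).d p (p + 1) x.2.2 = 0 := by
    refine cm_iCycles_injective U _ _ ((cm_d U _ p (p + 1) x.2.2).symm.trans ?_)
    rw [((mem_wit U).1 hx).2, map_zero]
    exact δ_lead U I n p _
  rw [h, map_zero]

/-- The graded class. -/
def φ (p : ℕ) : wit U (I := I) n p →+
    (CohB1.cechHTop U (CohCx.HDUPresheaf (DerivedCategory.Q.obj K) (qd n p)) p : AddCommGrpCat.{u}) :=
  (toH ((CC U).obj (CohCx.HDUPresheaf (DerivedCategory.Q.obj K) (qd n p))) p).comp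
    (((clC U e p (qd n p)).comp ((last U n p).comp (wit U n p).subtype)).codRestrict _ fun x => d_last U e x.2)

/-- The class in the filtration. -/
def ψ (p : ℕ) : wit U (I := I) n p →+ HTor.grDesc (G U e n) p :=
  (Submodule.mkQ ((G U e n (p + 1)).comap (G U e n p).subtype)).toAddMonoidHom.comp
    ((((cls e n).app (op ⊤)).hom.comp ((AddMonoidHom.fst _ _).comp (wit U n p).subtype)).codRestrict
      (G U e n p) fun x => ⟨x.1, x.2, rfl⟩)

lemma ψ_surjective (p : ℕ) : Function.Surjective (ψ U e (n := n) p) := fun z => by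
  obtain ⟨⟨_, x, hx, rfl⟩, rfl⟩ := Submodule.mkQ_surjective _ z
  exact ⟨⟨x, hx⟩, rfl⟩

lemma ker_φ_le (p : ℕ) : (φ U e (n := n) p).ker ≤ (ψ U e p).ker := by
  rintro ⟨⟨x, w, c⟩, hx⟩ h
  obtain ⟨hc, hl⟩ := (mem_wit U).1 hx
  obtain ⟨b, hb⟩ := toH_eq_zero _ _ _ h
  suffices ∃ w', (((iC I n).app (op ⊤)) x, w') ∈ chains U I n (p + 1) by
    obtain ⟨w', hw'⟩ := this
    obtain ⟨c', hc'⟩ := exists_wit U x w' hw'
    exact (Submodule.Quotient.mk_eq_zero _).2 ⟨_, hc', rfl⟩
  cases p with
  | zero =>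
    have hb' : clC U e 0 n c = 0 :=
      hb.symm.trans (by rw [HomologicalComplex.shape _ _ _ (by simp)]; rfl)
    obtain ⟨z, hz⟩ := clC_eq_zero U e 0 n (qd n 1) (sub_add_cancel _ _) c hb'
    exact ⟨_, mem_chains_succ hc z (hl.symm.trans hz.symm)⟩
  | succ p =>
    obtain ⟨b', hb'⟩ : ∃ b', ((CC U).obj (CohCx.HDUPresheaf (DerivedCategory.Q.obj K) (qd n (p + 1)))).d p (p + 1) b' =
        clC U e (p + 1) (qd n (p + 1)) c := by
      have hp : (ComplexShape.up ℕ).prev (p + 1) = p := by simp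
      have key : ∀ m, m = (ComplexShape.up ℕ).prev (p + 1) → ∃ b',
          ((CC U).obj (CohCx.HDUPresheaf (DerivedCategory.Q.obj K) (qd n (p + 1)))).d m (p + 1) b' =
            clC U e (p + 1) (qd n (p + 1)) c := fun m hm => by subst hm; exact ⟨b, hb⟩
      exact key p hp.symm
    obtain ⟨v, rfl⟩ := cm_surjective U (cls e (qd n (p + 1))) (cls_surjective e _) p b'
    let dc := ((CC U).obj ((KInjSections.preCx I).cycles (qd n (p + 1)))).d p (p + 1) v
    have hcl : clC U e (p + 1) (qd n (p + 1)) (c - dc) = 0 :=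
      (map_sub _ _ _).trans (sub_eq_zero.2 (hb'.symm.trans (cm_d U (cls e (qd n (p + 1))) p (p + 1) v)))
    obtain ⟨y, hy⟩ := clC_eq_zero U e (p + 1) (qd n (p + 1)) (qd n (p + 2)) (sub_add_cancel _ _) (c - dc) hcl
    let z : C U I p (qd n (p + 1)) := w p - cm U (iC I (qd n (p + 1))) p v
    have hz0 : dv U I p (qd n (p + 1)) (qd n p) (cm U (iC I (qd n (p + 1))) p v) = 0 :=
      (sub_add_cancel (qd n p) 1 : qd n (p + 1) + 1 = qd n p) ▸ dv_iCycles U p (qd n (p + 1)) v
    have h1 := mem_chains_succ (w := ((iC I n).app (op ⊤) x, w)) (chains_mono (Nat.le_succ p) hc) z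
      ((step_eq_zero U I n |>.1 ((mem_chains.1 hc).2 p (Nat.lt_succ_self p))).trans (by
        rw [map_sub, hz0, sub_zero]; rfl))
    refine ⟨_, mem_chains_succ h1 y ?_⟩
    show δ U I p (qd n (p + 1)) (Function.update w p z p) = _
    rw [Function.update_self, hy, map_sub, map_sub]
    exact congrArg₂ (· - ·) hl.symm (cm_d U (iC I (qd n (p + 1))) p (p + 1) v)

omit [HasDerivedCategory.{u} (CohTop.Ab X)] in
/-- A quotient with smaller kernel is a subquotient. -/
lemma isSubquotient_of_maps {R : Type} [CommRing R] {M N T : Type u} [AddCommGroup M] [Module R M] [AddCommGroup N] [Module R N]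
    [AddCommGroup T] [Module R T] (f : M →ₗ[R] T) (g : M →ₗ[R] N) (hle : LinearMap.ker f ≤ LinearMap.ker g)
    (hg : Function.Surjective g) : HTor.IsSubquotient R N T := by
  refine ⟨(LinearMap.ker g).map f, LinearMap.range f, LinearMap.map_le_range, ⟨?_⟩⟩
  let r := (Submodule.comap (LinearMap.range f).subtype ((LinearMap.ker g).map f)).mkQ.comp f.rangeRestrict
  have hr : Function.Surjective r := (Submodule.mkQ_surjective _).comp f.surjective_rangeRestrict
  have hk : LinearMap.ker r = LinearMap.ker g := by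
    ext x
    simp only [r, LinearMap.mem_ker, LinearMap.comp_apply, Submodule.mkQ_apply, Submodule.Quotient.mk_eq_zero,
      Submodule.mem_comap]
    refine ⟨fun ⟨y, hy, hyx⟩ => ?_, fun hx => ⟨x, hx, rfl⟩⟩
    have : x - y ∈ LinearMap.ker g := hle (by rw [LinearMap.mem_ker, map_sub, hyx]; exact sub_self _)
    rw [LinearMap.mem_ker, map_sub, LinearMap.mem_ker.1 hy, sub_zero] at this
    exact this
  exact (g.quotKerEquivOfSurjective hg).symm ≪≫ₗ (Submodule.quotEquivOfEq _ _ hk.symm) ≪≫ₗ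
    r.quotKerEquivOfSurjective hr

lemma isSubquotient_graded (p : ℕ) :
    HTor.IsSubquotient ℤ (HTor.grDesc (G U e n) p)
      (CohB1.cechHTop U (CohCx.HDUPresheaf (DerivedCategory.Q.obj K) (qd n p)) p : AddCommGrpCat.{u}) :=
  isSubquotient_of_maps (φ U e (n := n) p).toIntLinearMap (ψ U e (n := n) p).toIntLinearMap
    (fun _ hx => ker_φ_le U e p hx) (ψ_surjective U e p)

end

/-- The filtration of hypercohomology given by a cover. -/
theorem exists_filtration {X : TopCat.{u}} [HasDerivedCategory.{u} (CohTop.Ab X)] {ι : Type u} (U : ι → Opens X)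
    (hcov : iSup U = ⊤) (K : CochainComplex (CohTop.Ab X) ℤ) (a : ℤ) (ha : ∀ i : ℤ, i < a → IsZero (K.X i)) (n : ℤ) :
    ∃ (N : ℕ) (G : ℕ → Submodule ℤ (CohCx.HDU (DerivedCategory.Q.obj K) n (⊤ : Opens X))),
      Antitone G ∧ G 0 = ⊤ ∧ G N = ⊥ ∧
      G 1 = ⨅ i, AddSubgroup.toIntSubmodule
        (CohCx.HDUres (DerivedCategory.Q.obj K) n (homOfLE le_top : U i ⟶ (⊤ : Opens X))).ker ∧
      ∀ p : ℕ, HTor.IsSubquotient ℤ (HTor.grDesc G p)
        (CohB1.cechHTop U (CohCx.HDUPresheaf (DerivedCategory.Q.obj K) (n - p)) p) := by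
  have : K.IsStrictlyGE a := (CochainComplex.isStrictlyGE_iff K a).2 ha
  obtain ⟨I, θ, hθ, hi, hb⟩ := CochainComplex.Plus.modelCategoryQuillen.exists_quasiIso_injective K a
  have : I.IsKInjective := CochainComplex.isKInjective_of_injective I a
  let e := (asIso (DerivedCategory.Q.map θ)).symm
  refine ⟨(n - a).toNat + 1, G U e n, G_antitone U e, G_zero U e, G_bot U e n hcov a, G_one U e, fun p => ?_⟩
  rw [← qd_eq n p]
  exact isSubquotient_graded U e p

end Groth.Agent.DSites.Hyper
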